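import Cfsg.Agent.Helper17.FiQ2TC.Lemmas

set_option autoImplicit false
set_option linter.all false

noncomputable section

namespace Cfsg.Agent.Helper17.FiQ2TC

theorem F1 : act 0 n0 = n0 := d22_0 B0 
theorem F2 : act 1 n0 = n0 := d23_0 B1 
theorem F3 : act 2 n0 = n0 := d24_0 B2 
theorem F4 : act 3 n0 = n0 := d25_0 B3 
theorem F5 : act 4 n0 = n0 := d26_0 B4 
theorem F6 : act 6 n0 = n0 := d27_0 B5 
def n1 : Q := act 5 n0
theorem D1 : act 5 n0 = n1 := rfl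
theorem F7 : act 0 n1 = n1 := d4_1 D1 (iv D1) F1
theorem F8 : act 1 n1 = n1 := d9_1 D1 (iv D1) F2
theorem F9 : act 2 n1 = n1 := d13_1 D1 (iv D1) F3
theorem F10 : act 3 n1 = n1 := d16_1 D1 (iv D1) F4
theorem F11 : act 6 n1 = n1 := d20_2 F6 D1 (iv D1)
def n2 : Q := act 4 n1
theorem D2 : act 4 n1 = n2 := rfl
theorem F12 : act 0 n2 = n2 := d3_1 D2 (iv D2) F7
theorem F13 : act 1 n2 = n2 := d8_1 D2 (iv D2) F8
theorem F14 : act 2 n2 = n2 := d12_1 D2 (iv D2) F9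
theorem F15 : act 5 n2 = n2 := d18_2 D1 D2 (iv D2) (iv D1) F5
theorem F16 : act 6 n2 = n2 := d19_2 F11 D2 (iv D2)
def n3 : Q := act 3 n2
theorem D3 : act 3 n2 = n3 := rfl
theorem F17 : act 0 n3 = n3 := d2_1 D3 (iv D3) F12
theorem F18 : act 1 n3 = n3 := d7_1 D3 (iv D3) F13
theorem F19 : act 4 n3 = n3 := d15_2 D2 D3 (iv D3) (iv D2) F10
theorem F20 : act 5 n3 = n3 := d16_2 F15 D3 (iv D3)
theorem F21 : act 6 n3 = n3 := d17_2 F16 D3 (iv D3)
def n4 : Q := act 2 n3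
theorem D4 : act 2 n3 = n4 := rfl
theorem F22 : act 0 n4 = n4 := d1_1 D4 (iv D4) F17
theorem F23 : act 3 n4 = n4 := d11_2 D3 D4 (iv D4) (iv D3) F14
theorem F24 : act 4 n4 = n4 := d12_2 F19 D4 (iv D4)
theorem F25 : act 5 n4 = n4 := d13_2 F20 D4 (iv D4)
def n5 : Q := act 1 n4
theorem D5 : act 1 n4 = n5 := rfl
theorem F26 : act 2 n5 = n5 := d6_2 D4 D5 (iv D5) (iv D4) F18
theorem F27 : act 3 n5 = n5 := d7_2 F23 D5 (iv D5)
theorem F28 : act 4 n5 = n5 := d8_2 F24 D5 (iv D5)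
theorem F29 : act 5 n5 = n5 := d9_2 F25 D5 (iv D5)
def n6 : Q := act 6 n4
theorem D6 : act 6 n4 = n6 := rfl
theorem F30 : act 0 n6 = n6 := d5_1 D6 (iv D6) F22
theorem F31 : act 2 n6 = n6 := d14_1 D6 (iv D6) (iv D4) F21 D4
theorem F32 : act 3 n6 = n6 := d17_1 D6 (iv D6) F23
theorem F33 : act 4 n6 = n6 := d19_1 D6 (iv D6) F24
theorem F34 : act 5 n6 = n6 := d20_1 D6 (iv D6) F25
def n7 : Q := act 0 n5
theorem D7 : act 0 n5 = n7 := rfl
theorem F35 : act 1 n7 = n7 := d0_2 D5 D7 (iv D7) (iv D5) F22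
theorem F36 : act 2 n7 = n7 := d1_2 F26 D7 (iv D7)
theorem F37 : act 3 n7 = n7 := d2_2 F27 D7 (iv D7)
theorem F38 : act 4 n7 = n7 := d3_2 F28 D7 (iv D7)
theorem F39 : act 5 n7 = n7 := d4_2 F29 D7 (iv D7)
def n8 : Q := act 6 n5
theorem D8 : act 6 n5 = n8 := rfl
theorem F40 : act 1 n8 = n6 := d10_1 D8 (iv D6) D5
theorem F41 : act 3 n8 = n8 := d17_1 D8 (iv D8) F27
theorem F42 : act 4 n8 = n8 := d19_1 D8 (iv D8) F28
theorem F43 : act 5 n8 = n8 := d20_1 D8 (iv D8) F29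
def n9 : Q := act 6 n7
theorem D9 : act 6 n7 = n9 := rfl
theorem F44 : act 0 n9 = n8 := d5_1 D9 (iv D8) D7
theorem F45 : act 1 n9 = n9 := d10_1 D9 (iv D9) F35
theorem F46 : act 3 n9 = n9 := d17_1 D9 (iv D9) F37
theorem F47 : act 4 n9 = n9 := d19_1 D9 (iv D9) F38
theorem F48 : act 5 n9 = n9 := d20_1 D9 (iv D9) F39
def n10 : Q := act 2 n8
theorem D10 : act 2 n8 = n10 := rfl
theorem F49 : act 1 n10 = n10 := d6_1 D10 (iv D10) F40 F31 (iv F40)
theorem F50 : act 4 n10 = n10 := d12_2 F42 D10 (iv D10)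
theorem F51 : act 5 n10 = n10 := d13_2 F43 D10 (iv D10)
theorem F52 : act 6 n10 = n10 := d14_2 D8 D10 (iv D10) (iv D8) F26
def n11 : Q := act 2 n9
theorem D11 : act 2 n9 = n11 := rfl
theorem F53 : act 0 n11 = n10 := d1_1 D11 (iv D10) (iv F44)
theorem F54 : act 4 n11 = n11 := d12_2 F47 D11 (iv D11)
theorem F55 : act 5 n11 = n11 := d13_2 F48 D11 (iv D11)
theorem F56 : act 6 n11 = n11 := d14_2 D9 D11 (iv D11) (iv D9) F36
def n12 : Q := act 3 n10
theorem D12 : act 3 n10 = n12 := rfl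
theorem F57 : act 1 n12 = n12 := d7_1 D12 (iv D12) F49
theorem F58 : act 2 n12 = n12 := d11_1 D12 (iv D12) (iv D10) F41 D10
theorem F59 : act 5 n12 = n12 := d16_2 F51 D12 (iv D12)
theorem F60 : act 6 n12 = n12 := d17_2 F52 D12 (iv D12)
def n13 : Q := act 1 n11
theorem D13 : act 1 n11 = n13 := rfl
theorem F61 : act 0 n13 = n13 := d0_1 D13 (iv D13) F53 F49 (iv F53)
theorem F62 : act 2 n13 = n13 := d6_2 D11 D13 (iv D13) (iv D11) F45
theorem F63 : act 4 n13 = n13 := d8_2 F54 D13 (iv D13)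
theorem F64 : act 5 n13 = n13 := d9_2 F55 D13 (iv D13)
theorem F65 : act 6 n13 = n13 := d10_2 F56 D13 (iv D13)
def n14 : Q := act 3 n11
theorem D14 : act 3 n11 = n14 := rfl
theorem F66 : act 0 n14 = n12 := d2_1 D14 (iv D12) (iv F53)
theorem F67 : act 2 n14 = n14 := d11_1 D14 (iv D14) (iv D11) F46 D11
theorem F68 : act 5 n14 = n14 := d16_2 F55 D14 (iv D14)
theorem F69 : act 6 n14 = n14 := d17_2 F56 D14 (iv D14)
def n15 : Q := act 4 n12
theorem D15 : act 4 n12 = n15 := rfl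
theorem F70 : act 1 n15 = n15 := d8_1 D15 (iv D15) F57
theorem F71 : act 2 n15 = n15 := d12_1 D15 (iv D15) F58
theorem F72 : act 3 n15 = n15 := d15_1 D15 (iv D15) (iv D12) F50 D12
theorem F73 : act 6 n15 = n15 := d19_2 F60 D15 (iv D15)
def n16 : Q := act 3 n13
theorem D16 : act 3 n13 = n16 := rfl
theorem F74 : act 0 n16 = n16 := d2_1 D16 (iv D16) F61
theorem F75 : act 1 n16 = n14 := d7_1 D16 (iv D14) D13
theorem F76 : act 5 n16 = n16 := d16_2 F64 D16 (iv D16)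
theorem F77 : act 6 n16 = n16 := d17_2 F65 D16 (iv D16)
def n17 : Q := act 4 n14
theorem D17 : act 4 n14 = n17 := rfl
theorem F78 : act 0 n17 = n15 := d3_1 D17 (iv D15) (iv F66)
theorem F79 : act 2 n17 = n17 := d12_1 D17 (iv D17) F67
theorem F80 : act 3 n17 = n17 := d15_1 D17 (iv D17) (iv D14) F54 D14
theorem F81 : act 6 n17 = n17 := d19_2 F69 D17 (iv D17)
def n18 : Q := act 5 n15
theorem D18 : act 5 n15 = n18 := rfl
theorem F82 : act 1 n18 = n18 := d9_1 D18 (iv D18) F70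
theorem F83 : act 2 n18 = n18 := d13_1 D18 (iv D18) F71
theorem F84 : act 3 n18 = n18 := d16_1 D18 (iv D18) F72
theorem F85 : act 4 n18 = n18 := d18_1 D18 (iv D18) (iv D15) F59 D15
theorem F86 : act 6 n18 = n18 := d20_2 F73 D18 (iv D18)
def n19 : Q := act 2 n16
theorem D19 : act 2 n16 = n19 := rfl
theorem F87 : act 0 n19 = n19 := d1_1 D19 (iv D19) F74
theorem F88 : act 1 n19 = n19 := d6_1 D19 (iv D19) F75 F67 (iv F75)
theorem F89 : act 3 n19 = n19 := d11_2 D16 D19 (iv D19) (iv D16) F62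
theorem F90 : act 5 n19 = n19 := d13_2 F76 D19 (iv D19)
def n20 : Q := act 4 n16
theorem D20 : act 4 n16 = n20 := rfl
theorem F91 : act 0 n20 = n20 := d3_1 D20 (iv D20) F74
theorem F92 : act 1 n20 = n17 := d8_1 D20 (iv D17) (iv F75)
theorem F93 : act 3 n20 = n20 := d15_1 D20 (iv D20) (iv D16) F63 D16
theorem F94 : act 6 n20 = n20 := d19_2 F77 D20 (iv D20)
def n21 : Q := act 5 n17
theorem D21 : act 5 n17 = n21 := rfl
theorem F95 : act 0 n21 = n18 := d4_1 D21 (iv D18) (iv F78)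
theorem F96 : act 2 n21 = n21 := d13_1 D21 (iv D21) F79
theorem F97 : act 3 n21 = n21 := d16_1 D21 (iv D21) F80
theorem F98 : act 4 n21 = n21 := d18_1 D21 (iv D21) (iv D17) F68 D17
theorem F99 : act 6 n21 = n21 := d20_2 F81 D21 (iv D21)
def n22 : Q := act 4 n19
theorem D22 : act 4 n19 = n22 := rfl
theorem F100 : act 0 n22 = n22 := d3_1 D22 (iv D22) F87
theorem F101 : act 1 n22 = n22 := d8_1 D22 (iv D22) F88
theorem F102 : act 2 n22 = n20 := d12_1 D22 (iv D20) D19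
def n23 : Q := act 6 n19
theorem D23 : act 6 n19 = n23 := rfl
theorem F103 : act 0 n23 = n23 := d5_1 D23 (iv D23) F87
theorem F104 : act 1 n23 = n23 := d10_1 D23 (iv D23) F88
theorem F105 : act 2 n23 = n23 := d14_1 D23 (iv D23) (iv D19) F77 D19
theorem F106 : act 3 n23 = n23 := d17_1 D23 (iv D23) F89
theorem F107 : act 5 n23 = n23 := d20_1 D23 (iv D23) F90
def n24 : Q := act 5 n20
theorem D24 : act 5 n20 = n24 := rfl
theorem F108 : act 0 n24 = n24 := d4_1 D24 (iv D24) F91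
theorem F109 : act 1 n24 = n21 := d9_1 D24 (iv D21) (iv F92)
theorem F110 : act 3 n24 = n24 := d16_1 D24 (iv D24) F93
theorem F111 : act 4 n24 = n24 := d18_1 D24 (iv D24) (iv D20) F76 D20
theorem F112 : act 6 n24 = n24 := d20_2 F94 D24 (iv D24)
def n25 : Q := act 3 n22
theorem D25 : act 3 n22 = n25 := rfl
theorem F113 : act 0 n25 = n25 := d2_1 D25 (iv D25) F100
theorem F114 : act 1 n25 = n25 := d7_1 D25 (iv D25) F101
theorem F115 : act 2 n25 = n25 := d11_1 D25 (iv D25) F102 F93 (iv F102)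
theorem F116 : act 4 n25 = n25 := d15_2 D22 D25 (iv D25) (iv D22) F89
def n26 : Q := act 5 n22
theorem D26 : act 5 n22 = n26 := rfl
theorem F117 : act 0 n26 = n26 := d4_1 D26 (iv D26) F100
theorem F118 : act 1 n26 = n26 := d9_1 D26 (iv D26) F101
theorem F119 : act 2 n26 = n24 := d13_1 D26 (iv D24) (iv F102)
theorem F120 : act 4 n26 = n26 := d18_1 D26 (iv D26) (iv D22) F90 D22
def n27 : Q := act 6 n22
theorem D27 : act 6 n22 = n27 := rfl
theorem F121 : act 0 n27 = n27 := d5_1 D27 (iv D27) F100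
theorem F122 : act 1 n27 = n27 := d10_1 D27 (iv D27) F101
theorem F123 : act 2 n27 = n27 := d14_1 D27 (iv D27) F102 F94 (iv F102)
theorem F124 : act 4 n27 = n23 := d19_1 D27 (iv D23) D22
theorem F125 : act 5 n27 = n25 := d21_1 D27 F116 (iv D25) F102 F92 F78 F73 D18 F85 F84 F83 F82 (iv F95) F99 (iv D21) (iv D17) (iv D14) (iv D11) F45 F44 (iv D8) F29 F28 F27 F26 (iv D5) F22 D6 F34 F33 F32 F31 (iv F40) (iv F44) (iv D9) F39 F38 F37 F36 F35 (iv D7) D8 F43 F42 F41 D10 F49 (iv F53) F56 F55 F54 D14 F67 (iv F75) F74 F77 F76 D20 F93 (iv F102) F101 F100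
theorem F126 : act 6 n26 = n25 := d20_2 (iv D27) D26 (iv F125)
theorem F127 : act 3 n27 = n26 := d17_3 F126 (iv D25) D27

end Cfsg.Agent.Helper17.FiQ2TC
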