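import Cfsg.Agent.Helper17.FiQ2TC.Final

set_option autoImplicit false
set_option linter.all false
set_option maxRecDepth 100000

noncomputable section

namespace Cfsg.Agent.Helper17.FiQ2TC

theorem N1 : nd 1 = n1 := ndS (p := 0) (l := 5) rfl N0 D1
theorem N2 : nd 2 = n2 := ndS (p := 1) (l := 4) rfl N1 D2
theorem N3 : nd 3 = n3 := ndS (p := 2) (l := 3) rfl N2 D3
theorem N4 : nd 4 = n4 := ndS (p := 3) (l := 2) rfl N3 D4
theorem N5 : nd 5 = n5 := ndS (p := 4) (l := 1) rfl N4 D5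
theorem N6 : nd 6 = n6 := ndS (p := 4) (l := 6) rfl N4 D6
theorem N7 : nd 7 = n7 := ndS (p := 5) (l := 0) rfl N5 D7
theorem N8 : nd 8 = n8 := ndS (p := 5) (l := 6) rfl N5 D8
theorem N9 : nd 9 = n9 := ndS (p := 7) (l := 6) rfl N7 D9
theorem N10 : nd 10 = n10 := ndS (p := 8) (l := 2) rfl N8 D10
theorem N11 : nd 11 = n11 := ndS (p := 9) (l := 2) rfl N9 D11
theorem N12 : nd 12 = n12 := ndS (p := 10) (l := 3) rfl N10 D12
theorem N13 : nd 13 = n13 := ndS (p := 11) (l := 1) rfl N11 D13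
theorem N14 : nd 14 = n14 := ndS (p := 11) (l := 3) rfl N11 D14
theorem N15 : nd 15 = n15 := ndS (p := 12) (l := 4) rfl N12 D15
theorem N16 : nd 16 = n16 := ndS (p := 13) (l := 3) rfl N13 D16
theorem N17 : nd 17 = n17 := ndS (p := 14) (l := 4) rfl N14 D17
theorem N18 : nd 18 = n18 := ndS (p := 15) (l := 5) rfl N15 D18
theorem N19 : nd 19 = n19 := ndS (p := 16) (l := 2) rfl N16 D19
theorem N20 : nd 20 = n20 := ndS (p := 16) (l := 4) rfl N16 D20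
theorem N21 : nd 21 = n21 := ndS (p := 17) (l := 5) rfl N17 D21
theorem N22 : nd 22 = n22 := ndS (p := 19) (l := 4) rfl N19 D22
theorem N23 : nd 23 = n23 := ndS (p := 19) (l := 6) rfl N19 D23
theorem N24 : nd 24 = n24 := ndS (p := 20) (l := 5) rfl N20 D24
theorem N25 : nd 25 = n25 := ndS (p := 22) (l := 3) rfl N22 D25
theorem N26 : nd 26 = n26 := ndS (p := 22) (l := 5) rfl N22 D26
theorem N27 : nd 27 = n27 := ndS (p := 22) (l := 6) rfl N22 D27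
theorem Q1 : ∀ i, i < 1 → P i := stepQ 0 Q0 (allL N0 (tt N0 F1) (tt N0 F2) (tt N0 F3) (tt N0 F4) (tt N0 F5) (tt N1 D1) (tt N0 F6))
theorem Q2 : ∀ i, i < 2 → P i := stepQ 1 Q1 (allL N1 (tt N1 F7) (tt N1 F8) (tt N1 F9) (tt N1 F10) (tt N2 D2) (tt N0 (iv D1)) (tt N1 F11))
theorem Q3 : ∀ i, i < 3 → P i := stepQ 2 Q2 (allL N2 (tt N2 F12) (tt N2 F13) (tt N2 F14) (tt N3 D3) (tt N1 (iv D2)) (tt N2 F15) (tt N2 F16))
theorem Q4 : ∀ i, i < 4 → P i := stepQ 3 Q3 (allL N3 (tt N3 F17) (tt N3 F18) (tt N4 D4) (tt N2 (iv D3)) (tt N3 F19) (tt N3 F20) (tt N3 F21))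
theorem Q5 : ∀ i, i < 5 → P i := stepQ 4 Q4 (allL N4 (tt N4 F22) (tt N5 D5) (tt N3 (iv D4)) (tt N4 F23) (tt N4 F24) (tt N4 F25) (tt N6 D6))
theorem Q6 : ∀ i, i < 6 → P i := stepQ 5 Q5 (allL N5 (tt N7 D7) (tt N4 (iv D5)) (tt N5 F26) (tt N5 F27) (tt N5 F28) (tt N5 F29) (tt N8 D8))
theorem Q7 : ∀ i, i < 7 → P i := stepQ 6 Q6 (allL N6 (tt N6 F30) (tt N8 (iv F40)) (tt N6 F31) (tt N6 F32) (tt N6 F33) (tt N6 F34) (tt N4 (iv D6)))
theorem Q8 : ∀ i, i < 8 → P i := stepQ 7 Q7 (allL N7 (tt N5 (iv D7)) (tt N7 F35) (tt N7 F36) (tt N7 F37) (tt N7 F38) (tt N7 F39) (tt N9 D9))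
theorem Q9 : ∀ i, i < 9 → P i := stepQ 8 Q8 (allL N8 (tt N9 (iv F44)) (tt N6 F40) (tt N10 D10) (tt N8 F41) (tt N8 F42) (tt N8 F43) (tt N5 (iv D8)))
theorem Q10 : ∀ i, i < 10 → P i := stepQ 9 Q9 (allL N9 (tt N8 F44) (tt N9 F45) (tt N11 D11) (tt N9 F46) (tt N9 F47) (tt N9 F48) (tt N7 (iv D9)))
theorem Q11 : ∀ i, i < 11 → P i := stepQ 10 Q10 (allL N10 (tt N11 (iv F53)) (tt N10 F49) (tt N8 (iv D10)) (tt N12 D12) (tt N10 F50) (tt N10 F51) (tt N10 F52))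
theorem Q12 : ∀ i, i < 12 → P i := stepQ 11 Q11 (allL N11 (tt N10 F53) (tt N13 D13) (tt N9 (iv D11)) (tt N14 D14) (tt N11 F54) (tt N11 F55) (tt N11 F56))
theorem Q13 : ∀ i, i < 13 → P i := stepQ 12 Q12 (allL N12 (tt N14 (iv F66)) (tt N12 F57) (tt N12 F58) (tt N10 (iv D12)) (tt N15 D15) (tt N12 F59) (tt N12 F60))
theorem Q14 : ∀ i, i < 14 → P i := stepQ 13 Q13 (allL N13 (tt N13 F61) (tt N11 (iv D13)) (tt N13 F62) (tt N16 D16) (tt N13 F63) (tt N13 F64) (tt N13 F65))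
theorem Q15 : ∀ i, i < 15 → P i := stepQ 14 Q14 (allL N14 (tt N12 F66) (tt N16 (iv F75)) (tt N14 F67) (tt N11 (iv D14)) (tt N17 D17) (tt N14 F68) (tt N14 F69))
theorem Q16 : ∀ i, i < 16 → P i := stepQ 15 Q15 (allL N15 (tt N17 (iv F78)) (tt N15 F70) (tt N15 F71) (tt N15 F72) (tt N12 (iv D15)) (tt N18 D18) (tt N15 F73))
theorem Q17 : ∀ i, i < 17 → P i := stepQ 16 Q16 (allL N16 (tt N16 F74) (tt N14 F75) (tt N19 D19) (tt N13 (iv D16)) (tt N20 D20) (tt N16 F76) (tt N16 F77))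
theorem Q18 : ∀ i, i < 18 → P i := stepQ 17 Q17 (allL N17 (tt N15 F78) (tt N20 (iv F92)) (tt N17 F79) (tt N17 F80) (tt N14 (iv D17)) (tt N21 D21) (tt N17 F81))
theorem Q19 : ∀ i, i < 19 → P i := stepQ 18 Q18 (allL N18 (tt N21 (iv F95)) (tt N18 F82) (tt N18 F83) (tt N18 F84) (tt N18 F85) (tt N15 (iv D18)) (tt N18 F86))
theorem Q20 : ∀ i, i < 20 → P i := stepQ 19 Q19 (allL N19 (tt N19 F87) (tt N19 F88) (tt N16 (iv D19)) (tt N19 F89) (tt N22 D22) (tt N19 F90) (tt N23 D23))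
theorem Q21 : ∀ i, i < 21 → P i := stepQ 20 Q20 (allL N20 (tt N20 F91) (tt N17 F92) (tt N22 (iv F102)) (tt N20 F93) (tt N16 (iv D20)) (tt N24 D24) (tt N20 F94))
theorem Q22 : ∀ i, i < 22 → P i := stepQ 21 Q21 (allL N21 (tt N18 F95) (tt N24 (iv F109)) (tt N21 F96) (tt N21 F97) (tt N21 F98) (tt N17 (iv D21)) (tt N21 F99))
theorem Q23 : ∀ i, i < 23 → P i := stepQ 22 Q22 (allL N22 (tt N22 F100) (tt N22 F101) (tt N20 F102) (tt N25 D25) (tt N19 (iv D22)) (tt N26 D26) (tt N27 D27))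
theorem Q24 : ∀ i, i < 24 → P i := stepQ 23 Q23 (allL N23 (tt N23 F103) (tt N23 F104) (tt N23 F105) (tt N23 F106) (tt N27 (iv F124)) (tt N23 F107) (tt N19 (iv D23)))
theorem Q25 : ∀ i, i < 25 → P i := stepQ 24 Q24 (allL N24 (tt N24 F108) (tt N21 F109) (tt N26 (iv F119)) (tt N24 F110) (tt N24 F111) (tt N20 (iv D24)) (tt N24 F112))
theorem Q26 : ∀ i, i < 26 → P i := stepQ 25 Q25 (allL N25 (tt N25 F113) (tt N25 F114) (tt N25 F115) (tt N22 (iv D25)) (tt N25 F116) (tt N27 (iv F125)) (tt N26 (iv F126)))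
theorem Q27 : ∀ i, i < 27 → P i := stepQ 26 Q26 (allL N26 (tt N26 F117) (tt N26 F118) (tt N24 F119) (tt N27 (iv F127)) (tt N26 F120) (tt N22 (iv D26)) (tt N25 F126))
theorem Q28 : ∀ i, i < 28 → P i := stepQ 27 Q27 (allL N27 (tt N27 F121) (tt N27 F122) (tt N27 F123) (tt N26 F127) (tt N23 F124) (tt N25 F125) (tt N22 (iv D27)))

theorem closedN : ∀ i, i < N → P i := Q28

end Cfsg.Agent.Helper17.FiQ2TC
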